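import Groth.Agent.DepthPush.Main
import Groth.Agent.FlatDepth.SkTensor
import Groth.Agent.LocH.DepthMisc

/-! Cohen–Macaulay and `(S_k)` modules finite over the base. -/

set_option autoImplicit false

universe u

open IsLocalRing

namespace Groth.Agent.DepthPushCM

variable {R : Type u} [CommRing R] [IsLocalRing R] [IsNoetherianRing R] (M : Type u) [AddCommGroup M] [Module R M]
  [Module.Finite R M]

theorem supportDim_at_maximal : Module.supportDim (Localization.AtPrime (maximalIdeal R))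
    (LocalizedModule (maximalIdeal R).primeCompl M) = Module.supportDim R M := by
  rw [FlatDepth.supportDim_localized_eq]
  exact Order.krullDim_eq_of_orderIso
    { toFun := fun x => ⟨x.1, x.2.1⟩
      invFun := fun x => ⟨x.1, x.2, le_maximalIdeal x.1.isPrime.ne_top⟩
      left_inv := fun _ => rfl
      right_inv := fun _ => rfl
      map_rel_iff' := Iff.rfl }

theorem depth_at_maximal : LocCoh.depth (Localization.AtPrime (maximalIdeal R))
    (LocalizedModule (maximalIdeal R).primeCompl M) = LocCoh.depth R M := by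
  set S := (maximalIdeal R).primeCompl
  have hu : ∀ s : S, IsUnit (s : R) := fun s => IsLocalRing.notMem_maximalIdeal.1 s.2
  haveI : IsLocalizedModule S (LinearMap.id : M →ₗ[R] M) :=
    { map_units := fun s => by
        rw [Module.End.isUnit_iff]
        obtain ⟨v, hv⟩ := hu s
        refine ⟨fun a b h => ?_, fun b => ⟨((v⁻¹ : Rˣ) : R) • b, ?_⟩⟩
        · have h' : ((s : R) • a) = (s : R) • b := h
          rw [← hv] at h'
          exact (IsUnit.smul_left_cancel v.isUnit).1 h'
        · show (s : R) • ((v⁻¹ : Rˣ) : R) • b = b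
          rw [← mul_smul, ← hv, Units.mul_inv, one_smul]
      surj := fun y => ⟨⟨y, 1⟩, by simp⟩
      exists_of_eq := fun h => ⟨1, by simpa using h⟩ }
  let e : M ≃ₗ[R] LocalizedModule S M := (IsLocalizedModule.iso S (LinearMap.id : M →ₗ[R] M)).symm
  haveI : Module.Finite R (LocalizedModule S M) := Module.Finite.equiv e
  have h1 := LocH.idealDepth_map_eq (R := R) (R' := Localization.AtPrime (maximalIdeal R)) (maximalIdeal R)
    (LocalizedModule S M)
  rw [IsLocalization.AtPrime.map_eq_maximalIdeal (maximalIdeal R) (Localization.AtPrime (maximalIdeal R))] at h1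
  exact h1.symm.trans (LocH.idealDepth_congr e (maximalIdeal R)).symm

theorem isCohenMacaulayModule_iff : LocCoh.IsCohenMacaulayModule R M ↔
    LocCoh.IsCohenMacaulayModule (Localization.AtPrime (maximalIdeal R)) (LocalizedModule (maximalIdeal R).primeCompl M) := by
  unfold LocCoh.IsCohenMacaulayModule
  rw [supportDim_at_maximal M, depth_at_maximal M]

theorem depth_le (hn : Nontrivial M) : ((LocCoh.depth R M : ℕ∞) : WithBot ℕ∞) ≤ Module.supportDim R M := by
  rcases h : Module.supportDim R M with _ | d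
  · exact absurd h ((Order.bot_lt_krullDim_iff.2 (Module.nonempty_support_of_nontrivial.to_subtype)).ne')
  · rcases eq_or_ne d ⊤ with rfl | hd
    · exact WithBot.coe_le_coe.2 le_top
    · lift d to ℕ using hd
      exact WithBot.coe_le_coe.2 (InvFin.depth_le_supportDim M h)

section Order

variable {ι : Type*} {s : Set ι} {d : ι → WithBot ℕ∞} {e : ι → ℕ∞}

lemma sup_eq_inf_iff (hs : s.Nonempty) (hle : ∀ q ∈ s, (e q : WithBot ℕ∞) ≤ d q) :
    (⨆ q ∈ s, d q) = ((⨅ q ∈ s, e q : ℕ∞) : WithBot ℕ∞) ↔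
      (∀ q ∈ s, d q = e q) ∧ ∀ q ∈ s, ∀ q' ∈ s, d q = d q' := by
  constructor
  · intro h
    have key : ∀ q ∈ s, d q = ((⨅ q ∈ s, e q : ℕ∞) : WithBot ℕ∞) ∧ d q = e q := fun q hq => by
      have h1 : d q ≤ ((⨅ q ∈ s, e q : ℕ∞) : WithBot ℕ∞) := h ▸ le_biSup d hq
      have h2 : ((⨅ q ∈ s, e q : ℕ∞) : WithBot ℕ∞) ≤ e q := WithBot.coe_le_coe.2 (biInf_le e hq)
      exact ⟨le_antisymm h1 (h2.trans (hle q hq)), le_antisymm (h1.trans h2) (hle q hq)⟩
    exact ⟨fun q hq => (key q hq).2, fun q hq q' hq' => (key q hq).1.trans (key q' hq').1.symm⟩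
  · rintro ⟨h1, h2⟩
    obtain ⟨a, ha⟩ := hs
    have hd : (⨆ q ∈ s, d q) = d a :=
      le_antisymm (iSup₂_le fun q hq => (h2 q hq a ha).le) (le_biSup d ha)
    have he : (⨅ q ∈ s, e q) = e a := by
      refine le_antisymm (biInf_le e ha) (le_iInf₂ fun q hq => le_of_eq ?_)
      exact WithBot.coe_injective ((h1 a ha).symm.trans ((h2 a ha q hq).trans (h1 q hq)))
    rw [hd, he, h1 a ha]

lemma min_le_of_mem {k : WithBot ℕ∞} {q : ι} (hq : q ∈ s)
    (h : min k (⨆ r ∈ s, d r) ≤ ((⨅ r ∈ s, e r : ℕ∞) : WithBot ℕ∞)) : min k (d q) ≤ e q :=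
  (min_le_min_left k (le_biSup d hq)).trans (h.trans (WithBot.coe_le_coe.2 (biInf_le e hq)))

lemma min_sup_le_inf {k : WithBot ℕ∞} (hd : ∀ q ∈ s, ∀ q' ∈ s, d q = d q') (h : ∀ q ∈ s, min k (d q) ≤ e q) :
    min k (⨆ r ∈ s, d r) ≤ ((⨅ r ∈ s, e r : ℕ∞) : WithBot ℕ∞) := by
  rcases s.eq_empty_or_nonempty with rfl | ⟨a, ha⟩
  · simp
  · rw [le_antisymm (iSup₂_le fun q hq => (hd q hq a ha).le) (le_biSup d ha)]
    rcases hm : min k (d a) with _ | m
    · exact bot_le
    · refine WithBot.coe_le_coe.2 (le_iInf₂ fun r hr => WithBot.coe_le_coe.1 ?_)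
      refine hm.symm.trans_le ?_
      rw [← hd r hr a ha]
      exact h r hr

end Order

end Groth.Agent.DepthPushCM
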